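import Groth.Agent.ProjSpaceBC.Basic
import Groth.Agent.ProjUniv.Exists

/-!
# Immersions into projective space given by sections
-/

set_option autoImplicit false
set_option synthInstance.maxHeartbeats 400000
set_option maxHeartbeats 1600000
universe u
open CategoryTheory CategoryTheory.Limits AlgebraicGeometry Opposite TopologicalSpace

namespace Groth.Agent.ProjSpaceBC

open ProjUniv InvBasic

variable {n : ℕ} {R : Type u} [CommRing R] {X : Scheme.{u}}

/-- A morphism to projective space is an immersion if enough of its standard charts are closed immersions. -/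
theorem isImmersion_of_charts (r : X ⟶ Proj (CohB1.polyGrading n R)) (J : Set (Fin (n + 1)))
    (hcov : ∀ x, ∃ i ∈ J, x ∈ r ⁻¹ᵁ D n R i) (haff : ∀ i ∈ J, IsAffineOpen (r ⁻¹ᵁ D n R i))
    (hsurj : ∀ i ∈ J, Function.Surjective (chartMap r (le_rfl : r ⁻¹ᵁ D n R i ≤ _))) :
    IsImmersion r := by
  let U : (Proj (CohB1.polyGrading n R)).Opens := ⨆ i : J, D n R i.1
  have hrange : Set.range r ⊆ (U : Set (Proj (CohB1.polyGrading n R))) := by
    rintro _ ⟨x, rfl⟩
    obtain ⟨i, hi, hx⟩ := hcov x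
    exact Opens.mem_iSup.mpr ⟨⟨i, hi⟩, hx⟩
  let r' : X ⟶ U := IsOpenImmersion.lift U.ι r (by rwa [U.range_ι])
  have hr' : r' ≫ U.ι = r := IsOpenImmersion.lift_fac _ _ _
  have hc : IsClosedImmersion r' := by
    have hU : ⨆ i : J, U.ι ⁻¹ᵁ D n R i.1 = ⊤ := by
      refine top_le_iff.mp fun y _ => ?_
      obtain ⟨i, hi⟩ := Opens.mem_iSup.mp y.2
      exact Opens.mem_iSup.mpr ⟨i, hi⟩
    rw [IsZariskiLocalAtTarget.iff_of_iSup_eq_top (P := @IsClosedImmersion) _ hU]
    rintro ⟨i, hi⟩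
    have hV : IsAffineOpen (U.ι ⁻¹ᵁ D n R i) :=
      (Proj.isAffineOpen_basicOpen _ _ (Groth.Agent.ProjPoint.X_mem i) one_pos).preimage_of_isOpenImmersion U.ι
        (by rw [Scheme.Opens.opensRange_ι]; exact le_iSup (fun j : J => D n R j.1) ⟨i, hi⟩)
    have hpre : r' ⁻¹ᵁ U.ι ⁻¹ᵁ D n R i = r ⁻¹ᵁ D n R i := by rw [← Scheme.Hom.comp_preimage, hr']
    have : IsAffine (U.ι ⁻¹ᵁ D n R i) := hV
    have : IsAffine (r' ⁻¹ᵁ U.ι ⁻¹ᵁ D n R i) := (show IsAffineOpen (r' ⁻¹ᵁ U.ι ⁻¹ᵁ D n R i) by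
      rw [hpre]; exact haff i hi)
    refine IsClosedImmersion.of_surjective_of_isAffine _ ?_
    rw [morphismRestrict_appTop]
    have happ : Function.Surjective (r'.app (U.ι ⁻¹ᵁ D n R i)) := by
      intro c
      obtain ⟨c', hc'⟩ := (ConcreteCategory.bijective_of_isIso
        (X.presheaf.map (eqToHom hpre).op)).2 c
      obtain ⟨a, ha⟩ := hsurj i hi c'
      refine ⟨U.ι.app (D n R i) (Proj.awayToSection (CohB1.polyGrading n R) (MvPolynomial.X i) a), ?_⟩
      rw [← hc', ← ha]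
      have e := ConcreteCategory.congr_hom (Scheme.Hom.congr_app hr' (D n R i))
        (Proj.awayToSection (CohB1.polyGrading n R) (MvPolynomial.X i) a)
      rw [Scheme.Hom.comp_app] at e
      refine e.trans ?_
      simp [chartMap, Scheme.Hom.appLE]
      rfl
    rw [← (U.ι ⁻¹ᵁ D n R i).ι_image_top] at happ
    intro c
    obtain ⟨c', hc'⟩ := (ConcreteCategory.bijective_of_isIso (X.presheaf.map
      (eqToHom (image_morphismRestrict_preimage r' (U.ι ⁻¹ᵁ D n R i) ⊤)).op)).2 c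
    obtain ⟨b, hb⟩ := happ c'
    exact ⟨b, (congrArg _ hb).trans hc'⟩
  rw [← hr']
  infer_instance

theorem gen_iso_iff {L L' : X.Modules} (τ : L ≅ L') {s : Γ(L, ⊤)} {x : X} :
    Gen L' (τ.hom.app ⊤ s) x ↔ Gen L s x := by
  refine ⟨fun h => ?_, fun h => gen_map τ.hom h⟩
  have := gen_map τ.inv h
  rwa [show τ.inv.app ⊤ (τ.hom.app ⊤ s) = s from
    ConcreteCategory.congr_hom (congrArg (fun f => Scheme.Modules.Hom.app f ⊤) τ.hom_inv_id) s] at this

theorem generatedBy_of_gen {L : X.Modules} {ι : Type*} {s : ι → ProjUP.Γm L} (h : ∀ x, ∃ i, Gen L (s i) x) :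
    ProjUP.GeneratedBy L s := fun x => by
  rw [eq_top_iff]
  rintro y -
  obtain ⟨i, hi⟩ := h x
  obtain ⟨c, rfl⟩ := hi y
  exact Submodule.smul_mem _ _ (Submodule.subset_span ⟨i, rfl⟩)

/-- Sections with enough affine non-vanishing loci whose ratios generate define an immersion into projective
space over the base ring. -/
theorem exists_immersion (q : X ⟶ Spec (CommRingCat.of R)) {L : X.Modules} (hL : PicF.IsInvertible L)
    {ι : Type*} [Finite ι] (t : ι → ProjUP.Γm L) (J : Set ι) (hcov : ∀ x, ∃ j ∈ J, x ∈ genOpen hL (t j))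
    (haff : ∀ j ∈ J, IsAffineOpen (genOpen hL (t j)))
    (hgen : ∀ j ∈ J, Subring.closure (Set.range (sigma q (genOpen hL (t j))) ∪
      {c | ∃ k, gres L (t k) (genOpen hL (t j)) = c • gres L (t j) (genOpen hL (t j))}) = ⊤) :
    ∃ (N : ℕ) (i : X ⟶ CohB1.ProjSpaceOver N (Spec (CommRingCat.of R))), IsImmersion i ∧
      (UniversallyClosed q → IsClosedImmersion i) ∧
      i ≫ pullback.snd (CohB1.ProjSpace.toSpec N (ULift.{u} ℤ))
        (specULiftZIsTerminal.from (Spec (CommRingCat.of R))) = q ∧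
      Nonempty (L ≅ (Scheme.Modules.pullback i).obj (Twist.twistOver N (Spec (CommRingCat.of R)) 1)) := by
  let e := Finite.equivFin ι
  let N := Nat.card ι
  let s : Fin (N + 1) → ProjUP.Γm L := Fin.cons 0 (t ∘ e.symm)
  have hst : ∀ j, s (e j).succ = t j := fun j => by simp [s]
  obtain ⟨r, hq, τ, hτ⟩ := exists_hom q hL s (generatedBy_of_gen fun x => by
    obtain ⟨j, -, hx⟩ := hcov x
    exact ⟨(e j).succ, (hst j).symm ▸ hx⟩)
  have hD : ∀ j, r ⁻¹ᵁ D N R (e j).succ = genOpen hL (t j) := fun j => Opens.ext (Set.ext fun x => by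
    show x ∈ r ⁻¹ᵁ D N R (e j).succ ↔ Gen L (t j) x
    rw [← hst j, ← hτ, gen_iso_iff, gen_pco_iff])
  have hsurj : ∀ i ∈ (fun j => (e j).succ) '' J,
      Function.Surjective (chartMap r (le_rfl : r ⁻¹ᵁ D N R i ≤ _)) := by
    rintro _ ⟨j, hj, rfl⟩
    have hle : genOpen hL (t j) ≤ r ⁻¹ᵁ D N R (e j).succ := (hD j).ge
    suffices h : Function.Surjective (chartMap r hle) by
      intro c
      obtain ⟨a, ha⟩ := h (resR hle c)
      refine ⟨a, (ConcreteCategory.bijective_of_isIso (X.presheaf.map (eqToHom (hD j).symm).op)).1 ?_⟩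
      refine Eq.trans ?_ ha
      simp [chartMap, Scheme.Hom.appLE, eqToHom_op, ← eqToHom_map]
      rfl
    rw [← RingHom.range_eq_top, eq_top_iff, ← hgen j hj, Subring.closure_le]
    rintro c (⟨a, rfl⟩ | ⟨k, hk⟩)
    · exact ⟨ProjPoint.chartBase (e j).succ a, RingHom.congr_fun (chartMap_chartBase r hq hle) a⟩
    · refine ⟨ProjPoint.coord (e j).succ (e k).succ, ?_⟩
      have hb := isBasis_pco r hle (genOpen hL (t j)) le_rfl
      have h1 := congrArg (τ.hom.app _) (gres_pco r hle (e k).succ)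
      rw [Scheme.Modules.Hom.app_smul, gres_app, gres_app, hτ, hτ, hst, hst, hk] at h1
      have hb' := isBasis_genOpen hL (t j) (genOpen hL (t j)) le_rfl
      simp only [gres, res, Groth.Agent.QCohLib.map_map] at hb'
      exact (hb'.1 h1).symm
  obtain ⟨i, hi, hic, hiq, hiso⟩ := exists_over N R q L r hq τ
  have himm : IsImmersion r := isImmersion_of_charts r _
    (fun x => by
      obtain ⟨j, hj, hx⟩ := hcov x
      exact ⟨_, ⟨j, hj, rfl⟩, (hD j).ge hx⟩)
    (by rintro _ ⟨j, hj, rfl⟩; rw [hD j]; exact haff j hj) hsurj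
  refine ⟨N, i, hi himm, fun hu => ?_, hiq, hiso⟩
  refine hic ?_
  have : IsSeparated (Proj.toSpecZero (CohB1.polyGrading N R) ≫
      Spec.map (CommRingCat.ofHom (algebraMap R (CohB1.polyGrading N R 0)))) := inferInstance
  have : UniversallyClosed (r ≫ Proj.toSpecZero (CohB1.polyGrading N R) ≫
      Spec.map (CommRingCat.ofHom (algebraMap R (CohB1.polyGrading N R 0)))) := hq ▸ hu
  have : UniversallyClosed r := UniversallyClosed.of_comp_of_isSeparated r
    (Proj.toSpecZero (CohB1.polyGrading N R) ≫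
      Spec.map (CommRingCat.ofHom (algebraMap R (CohB1.polyGrading N R 0))))
  exact IsClosedImmersion.of_isPreimmersion r r.isClosedMap.isClosed_range

end Groth.Agent.ProjSpaceBC
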