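import Groth.Agent.ProjBC.Square
import Groth.Agent.ProjLinear.PullTwist
import Groth.Agent.ProjPoint.Basic
import Mathlib.RingTheory.TensorProduct.MvPolynomial
import Groth.Prelude.Def_Twist2

/-!
# Projective space over a ring and projective space over its spectrum
-/

set_option autoImplicit false
set_option synthInstance.maxHeartbeats 400000
set_option maxHeartbeats 800000
universe u
open CategoryTheory CategoryTheory.Limits AlgebraicGeometry

namespace Groth.Agent.ProjSpaceBC

variable (n : ℕ) (R : Type u) [CommRing R]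

/-- The structure map of `R` over the integers. -/
noncomputable def zHom : ULift.{u} ℤ →+* R := (Int.castRingHom R).comp ULift.ringEquiv.toRingHom

/-- Extension of coefficients of homogeneous polynomials from the integers to `R`. -/
noncomputable def φ : CohB1.polyGrading n (ULift.{u} ℤ) →+*ᵍ CohB1.polyGrading n R :=
  { MvPolynomial.map (σ := Fin (n + 1)) (zHom R) with
    map_mem := fun {_ p} hp => by
      show (MvPolynomial.map (zHom R) p).IsHomogeneous _
      exact MvPolynomial.IsHomogeneous.map hp _ }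

theorem φ_apply (p : MvPolynomial (Fin (n + 1)) (ULift.{u} ℤ)) : φ n R p = MvPolynomial.map (zHom R) p := rfl

theorem φ_X (i : Fin (n + 1)) : φ n R (MvPolynomial.X i) = MvPolynomial.X i :=
  MvPolynomial.map_X _ _

theorem irrelevant_le : HomogeneousIdeal.irrelevant (CohB1.polyGrading n R) ≤
    (HomogeneousIdeal.irrelevant (CohB1.polyGrading n (ULift.{u} ℤ))).map (φ n R) := by
  show (HomogeneousIdeal.irrelevant (CohB1.polyGrading n R)).toIdeal ≤
    ((HomogeneousIdeal.irrelevant (CohB1.polyGrading n (ULift.{u} ℤ))).map (φ n R)).toIdeal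
  refine (HomogeneousIdeal.toIdeal_irrelevant_le _).mpr fun d hd p hp => ?_
  rw [MvPolynomial.as_sum p]
  refine Ideal.sum_mem _ fun m hm => ?_
  have hdeg : Finsupp.degree m = d := by
    have h := hp (MvPolynomial.mem_support_iff.mp hm)
    simpa [Finsupp.weight_apply, Finsupp.degree, Finsupp.sum] using h
  have e : MvPolynomial.monomial m (MvPolynomial.coeff m p) =
      MvPolynomial.C (MvPolynomial.coeff m p) * φ n R (MvPolynomial.monomial m 1) := by
    rw [φ_apply, MvPolynomial.map_monomial, map_one, MvPolynomial.C_mul_monomial, mul_one]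
  rw [e]
  refine Ideal.mul_mem_left _ _ (Ideal.mem_map_of_mem _ ?_)
  exact HomogeneousIdeal.mem_irrelevant_of_mem _ hd (MvPolynomial.isHomogeneous_monomial _ hdeg)

/-- The morphism `P^n_R ⟶ P^n_ℤ`. -/
noncomputable abbrev toInt : CohB1.ProjSpace n R ⟶ CohB1.ProjSpace n (ULift.{u} ℤ) :=
  Proj.map (φ n R) (irrelevant_le n R)

theorem isPullback : IsPullback (toInt n R) (CohB1.ProjSpace.toSpec n R)
    (CohB1.ProjSpace.toSpec n (ULift.{u} ℤ)) (specULiftZIsTerminal.from (Spec (CommRingCat.of R))) := by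
  let _ : Algebra (ULift.{u} ℤ) R := (zHom R).toAlgebra
  let _ : Algebra (MvPolynomial (Fin (n + 1)) (ULift.{u} ℤ)) (MvPolynomial (Fin (n + 1)) R) :=
    MvPolynomial.algebraMvPolynomial
  have h := Groth.Agent.ProjBC.isPullback_proj (CohB1.polyGrading n (ULift.{u} ℤ)) (CohB1.polyGrading n R)
    (φ n R) (fun _ => rfl) (irrelevant_le n R)
  rw [show Spec.map (CommRingCat.ofHom (algebraMap (ULift.{u} ℤ) R)) =
    specULiftZIsTerminal.from (Spec (CommRingCat.of R)) from specULiftZIsTerminal.hom_ext _ _] at h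
  exact h

/-- `P^n_R ≅ P^n_{Spec R}`. -/
noncomputable def toOver : CohB1.ProjSpace n R ⟶ CohB1.ProjSpaceOver n (Spec (CommRingCat.of R)) :=
  (isPullback n R).isoPullback.hom

instance : IsIso (toOver n R) := by rw [toOver]; infer_instance

@[reassoc]
theorem toOver_fst : toOver n R ≫ pullback.fst (CohB1.ProjSpace.toSpec n (ULift.{u} ℤ))
    (specULiftZIsTerminal.from (Spec (CommRingCat.of R))) = toInt n R :=
  (isPullback n R).isoPullback_hom_fst

@[reassoc]
theorem toOver_snd : toOver n R ≫ pullback.snd (CohB1.ProjSpace.toSpec n (ULift.{u} ℤ))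
    (specULiftZIsTerminal.from (Spec (CommRingCat.of R))) = CohB1.ProjSpace.toSpec n R :=
  (isPullback n R).isoPullback_hom_snd

theorem nonempty_twistOver_iso (d : ℕ) :
    Nonempty ((Scheme.Modules.pullback (toOver n R)).obj (Twist.twistOver n (Spec (CommRingCat.of R)) (d : ℤ)) ≅
      Twist.twistProjSpace n R (d : ℤ)) := by
  obtain ⟨e⟩ := Groth.Agent.ProjLinear.nonempty_pullback_twist_iso (φ n R) (irrelevant_le n R) (d := d)
    (fun x => by
      obtain ⟨i, hi⟩ := TopologicalSpace.Opens.mem_iSup.mp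
        ((Groth.Agent.ProjPoint.iSup_basicOpen_X (n := n) (R := ULift.{u} ℤ)).ge (TopologicalSpace.Opens.mem_top x))
      refine ⟨MvPolynomial.X i ^ d, ?_, fun h => hi (x.isPrime.mem_of_pow_mem d h)⟩
      have := SetLike.pow_mem_graded d (Groth.Agent.ProjPoint.X_mem (n := n) (R := ULift.{u} ℤ) i)
      simpa using this)
  exact ⟨(Scheme.Modules.pullbackComp _ _).app _ ≪≫
    (Scheme.Modules.pullbackCongr (toOver_fst n R)).app _ ≪≫ e⟩

/-- An immersion into `P^n_R` with the expected inverse image of `O(1)` makes an invertible sheaf very ample. -/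
theorem exists_over {X : Scheme.{u}} (q : X ⟶ Spec (CommRingCat.of R)) (L : X.Modules)
    (r : X ⟶ Proj (CohB1.polyGrading n R)) (hq : r ≫ CohB1.ProjSpace.toSpec n R = q)
    (e : (Scheme.Modules.pullback r).obj (Twist.twist (CohB1.polyGrading n R) (1 : ℤ)) ≅ L) :
    ∃ i : X ⟶ CohB1.ProjSpaceOver n (Spec (CommRingCat.of R)), (IsImmersion r → IsImmersion i) ∧
      (IsClosedImmersion r → IsClosedImmersion i) ∧
      i ≫ pullback.snd (CohB1.ProjSpace.toSpec n (ULift.{u} ℤ))
        (specULiftZIsTerminal.from (Spec (CommRingCat.of R))) = q ∧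
      Nonempty (L ≅ (Scheme.Modules.pullback i).obj (Twist.twistOver n (Spec (CommRingCat.of R)) 1)) := by
  obtain ⟨τ⟩ := nonempty_twistOver_iso n R 1
  refine ⟨(r : X ⟶ CohB1.ProjSpace n R) ≫ toOver n R, fun h => ?_, fun h => ?_, ?_, ?_⟩
  · exact @IsImmersion.comp X (CohB1.ProjSpace n R) _ r (toOver n R) h inferInstance
  · exact MorphismProperty.comp_mem @IsClosedImmersion (r : X ⟶ CohB1.ProjSpace n R) (toOver n R) h
      (inferInstance : IsClosedImmersion (toOver n R))
  · exact ((Category.assoc _ _ _).trans (congrArg ((r : X ⟶ CohB1.ProjSpace n R) ≫ ·) (toOver_snd n R))).trans hq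
  · exact ⟨e.symm ≪≫ ((Scheme.Modules.pullback r).mapIso τ).symm ≪≫ (Scheme.Modules.pullbackComp _ _).app _⟩

end Groth.Agent.ProjSpaceBC
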