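import Groth.Agent.ProjSpaceBC.Immersion
import Groth.Agent.ProjTwist.Ample
import Groth.Agent.ProjTwist.QCoh
import Mathlib.AlgebraicGeometry.ProjectiveSpectrum.Proper

/-!
# Immersions of `Proj` into projective space given by elements of one degree
-/

set_option autoImplicit false
set_option synthInstance.maxHeartbeats 400000
set_option maxHeartbeats 1600000
universe u
open CategoryTheory CategoryTheory.Limits AlgebraicGeometry Opposite TopologicalSpace

namespace Groth.Agent.ProjSpaceBC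

open ProjUniv InvBasic ProjGamma

variable {R A : Type u} [CommRing R] [CommRing A] [Algebra R A] (𝒜 : ℕ → Submodule R A) [GradedAlgebra 𝒜]

/-- The structure morphism of `Proj` to the spectrum of the base ring. -/
noncomputable abbrev toBase : Proj 𝒜 ⟶ Spec (CommRingCat.of R) :=
  Proj.toSpecZero 𝒜 ≫ Spec.map (CommRingCat.ofHom (algebraMap R (𝒜 0)))

theorem rval_sigma {g : A} {d : ℕ} (hg : g ∈ 𝒜 d) (hd : 0 < d) (r : R) (x : ProjectiveSpectrum 𝒜)
    (hx : x ∈ Proj.basicOpen 𝒜 g) :
    rval (sigma (toBase 𝒜) (Proj.basicOpen 𝒜 g) r) x hx =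
      Localization.mk (algebraMap R A r) (1 : x.asHomogeneousIdeal.toIdeal.primeCompl) := by
  let W : (Proj 𝒜).Opens := Proj.basicOpen 𝒜 g
  have hD : W.ι = (W.toSpecΓ ≫ Spec.map (Proj.awayToSection 𝒜 g)) ≫ Proj.awayι 𝒜 g hg hd := by
    change _ = Proj.basicOpenToSpec 𝒜 g ≫ _
    rw [← Proj.basicOpenIsoSpec_hom 𝒜 _ hg hd, ← Proj.basicOpenIsoSpec_inv_ι, Iso.hom_inv_id_assoc]
  have e : W.toSpecΓ ≫ Spec.map (CommRingCat.ofHom (sigma (toBase 𝒜) W)) =
      W.toSpecΓ ≫ Spec.map (CommRingCat.ofHom (ProjBC.base 𝒜 g) ≫ Proj.awayToSection 𝒜 g) := by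
    refine (ι_comp_eq_sigma (toBase 𝒜) W).symm.trans ?_
    rw [Spec.map_comp]
    conv_lhs => rw [hD]
    rw [Category.assoc, Category.assoc, toBase, ProjBC.awayι_base 𝒜 hg hd]
  have h := congrArg CommRingCat.Hom.hom (toSpecΓ_cancel e)
  simp only [CommRingCat.hom_comp, CommRingCat.hom_ofHom] at h
  have e' := RingHom.congr_fun h r
  refine (congrArg (fun c : Γ(Proj 𝒜, W) => rval c x hx) e').trans ?_
  simp only [RingHom.comp_apply]
  refine (congrArg (HomogeneousLocalization.val) rfl).trans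
    ((ProjectiveSpectrum.Proj.awayToSection_apply (𝒜 := 𝒜) g (ProjBC.base 𝒜 g r) ⟨x, hx⟩).trans ?_)
  rw [ProjBC.base_val, IsLocalization.map_eq]
  exact (Localization.mk_one_eq_algebraMap _).symm

theorem gen_globalOf_iff {d : ℕ} (hcov : ∀ x : ProjectiveSpectrum 𝒜, ∃ g ∈ 𝒜 d, g ∉ x.asHomogeneousIdeal)
    (g : 𝒜 d) (x : ProjectiveSpectrum 𝒜) :
    Gen (Twist.twist 𝒜 (d : ℤ)) (Twist.globalOf 𝒜 g) x ↔ x ∈ Proj.basicOpen 𝒜 g.1 := by
  refine ⟨fun h => ?_, fun h => gen_of_isBasis (ProjLinear.isBasis_globalOf 𝒜 g) h⟩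
  obtain ⟨a, ha, hax⟩ := hcov x
  have hinv : PicF.IsInvertible (Twist.twist 𝒜 (d : ℤ)) :=
    ProjTwist.isInvertible_twist (by simpa using ProjTwist.hasUnit_of_cover hcov 1)
  have hu := isUnit_of_rel hinv (U := Proj.basicOpen 𝒜 a) hax
    (ProjLinear.globalOf_eq_smul 𝒜 g (⟨a, ha⟩ : 𝒜 d) fun y => y.2) h
  have hb := ((Proj 𝒜).mem_basicOpen _ x hax).mpr hu
  exact (mem_basicOpen_iff _ hax (rval_regFrac _ _ _ _ _ _ x hax)).mp hb

theorem surjective_algebraMap_zero {S : Set A} (hS : ∀ a ∈ S, ∃ d, 0 < d ∧ a ∈ 𝒜 d)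
    (hgen : Algebra.adjoin R S = ⊤) : Function.Surjective (algebraMap R (𝒜 0)) := by
  classical
  intro b
  suffices h : ∀ a : A, ∃ r : R, GradedRing.projZeroRingHom 𝒜 a = algebraMap R A r by
    obtain ⟨r, hr⟩ := h b.1
    refine ⟨r, Subtype.ext ?_⟩
    rw [GradedRing.projZeroRingHom_apply, DirectSum.decompose_of_mem_same 𝒜 b.2] at hr
    rw [hr]
    rfl
  intro a
  have ha : a ∈ Algebra.adjoin R S := hgen ▸ trivial
  induction ha using Algebra.adjoin_induction with
  | mem y hy =>
    obtain ⟨d, hd, hyd⟩ := hS y hy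
    exact ⟨0, by rw [GradedRing.projZeroRingHom_apply, DirectSum.decompose_of_mem_ne 𝒜 hyd hd.ne', map_zero]⟩
  | algebraMap r =>
    exact ⟨r, by rw [GradedRing.projZeroRingHom_apply, DirectSum.decompose_of_mem_same 𝒜
      (SetLike.algebraMap_mem_graded 𝒜 r)]⟩
  | add y z _ _ hy hz =>
    obtain ⟨r, hr⟩ := hy
    obtain ⟨r', hr'⟩ := hz
    exact ⟨r + r', by rw [map_add, hr, hr', map_add]⟩
  | mul y z _ _ hy hz =>
    obtain ⟨r, hr⟩ := hy
    obtain ⟨r', hr'⟩ := hz
    exact ⟨r * r', by rw [map_mul, hr, hr', map_mul]⟩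

/-- A homogeneous element of a graded algebra is a combination of monomials of the same degree. -/
theorem mem_span_monomials {κ : Type*} [Fintype κ] (f : κ → A) (deg : κ → ℕ) (hf : ∀ i, f i ∈ 𝒜 (deg i))
    (hgen : Algebra.adjoin R (Set.range f) = ⊤) {N : ℕ} {b : A} (hb : b ∈ 𝒜 N) :
    b ∈ Submodule.span R ((fun c : κ → ℕ => ∏ i, f i ^ c i) '' {c | ∑ i, c i * deg i = N}) := by
  classical
  obtain ⟨p, rfl⟩ : ∃ p : MvPolynomial κ R, MvPolynomial.aeval f p = b := by
    have : b ∈ Algebra.adjoin R (Set.range f) := hgen ▸ trivial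
    rwa [Algebra.adjoin_range_eq_range_aeval] at this
  have hmon : ∀ m : κ →₀ ℕ, (∏ i, f i ^ m i) ∈ 𝒜 (∑ i, m i * deg i) := fun m =>
    SetLike.prod_mem_graded _ _ _ fun i _ => by
      simpa [smul_eq_mul] using SetLike.pow_mem_graded (m i) (hf i)
  have haeval : ∀ m : κ →₀ ℕ, MvPolynomial.aeval f (MvPolynomial.monomial m (MvPolynomial.coeff m p)) =
      MvPolynomial.coeff m p • ∏ i, f i ^ m i := fun m => by
    rw [MvPolynomial.aeval_monomial, Algebra.smul_def, Finsupp.prod_fintype _ _ fun i => pow_zero (f i)]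
  rw [← DirectSum.decompose_of_mem_same 𝒜 hb, MvPolynomial.as_sum p, map_sum, DirectSum.decompose_sum,
    DFinsupp.finsetSum_apply, AddSubmonoidClass.coe_finsetSum]
  refine Submodule.sum_mem _ fun m _ => ?_
  rw [haeval]
  have hmem : MvPolynomial.coeff m p • ∏ i, f i ^ m i ∈ 𝒜 (∑ i, m i * deg i) := Submodule.smul_mem _ _ (hmon m)
  by_cases h : ∑ i, m i * deg i = N
  · subst h
    rw [DirectSum.decompose_of_mem_same 𝒜 hmem]
    exact Submodule.smul_mem _ _ (Submodule.subset_span ⟨fun i => m i, rfl, rfl⟩)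
  · rw [DirectSum.decompose_of_mem_ne 𝒜 hmem h]
    exact Submodule.zero_mem _

/-- Finitely many elements of degree `n`, some of them without common zero and with all ratios generating the
charts, give a closed immersion of `Proj` into projective space along which `O(1)` pulls back to `O(n)`. -/
theorem exists_closedImmersion [Algebra.FiniteType R A] (h0 : Function.Surjective (algebraMap R (𝒜 0)))
    {n : ℕ} (hn : 0 < n) {ι : Type*} [Finite ι] (a : ι → 𝒜 n) (J : Set ι)
    (hcov : ∀ x : ProjectiveSpectrum 𝒜, ∃ j ∈ J, (a j).1 ∉ x.asHomogeneousIdeal)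
    (hspan : ∀ j ∈ J, ∀ k, ∀ b ∈ 𝒜 (k * n), ∃ m,
      b * (a j).1 ^ m ∈ (Submodule.span R (Set.range fun i => (a i).1)) ^ (k + m)) :
    ∃ (N : ℕ) (i : Proj 𝒜 ⟶ CohB1.ProjSpaceOver N (Spec (CommRingCat.of R))), IsClosedImmersion i ∧
      i ≫ pullback.snd (CohB1.ProjSpace.toSpec N (ULift.{u} ℤ))
        (specULiftZIsTerminal.from (Spec (CommRingCat.of R))) = toBase 𝒜 ∧
      Nonempty (Twist.twist 𝒜 (n : ℤ) ≅
        (Scheme.Modules.pullback i).obj (Twist.twistOver N (Spec (CommRingCat.of R)) 1)) := by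
  have hcov' : ∀ x : ProjectiveSpectrum 𝒜, ∃ g ∈ 𝒜 n, g ∉ x.asHomogeneousIdeal := fun x => by
    obtain ⟨j, -, hj⟩ := hcov x
    exact ⟨_, (a j).2, hj⟩
  have hinv : PicF.IsInvertible (Twist.twist 𝒜 (n : ℤ)) :=
    ProjTwist.isInvertible_twist (by simpa using ProjTwist.hasUnit_of_cover hcov' 1)
  let t : ι → ProjUP.Γm (Twist.twist 𝒜 (n : ℤ)) := fun i => Twist.globalOf 𝒜 (a i)
  have hop : ∀ i, genOpen hinv (t i) = Proj.basicOpen 𝒜 (a i).1 := fun i =>
    Opens.ext (Set.ext fun x => gen_globalOf_iff 𝒜 hcov' (a i) x)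
  obtain ⟨N, i, -, hic, hiq, hiso⟩ := exists_immersion (toBase 𝒜) hinv t J
    (fun x => by
      obtain ⟨j, hj, hjx⟩ := hcov x
      exact ⟨j, hj, (hop j).ge hjx⟩)
    (fun j _ => by rw [hop j]; exact Proj.isAffineOpen_basicOpen 𝒜 _ (a j).2 hn)
    (fun j hj => by
      rw [hop j, eq_top_iff]
      set W := Proj.basicOpen 𝒜 (a j).1
      set S := Subring.closure (Set.range (sigma (toBase 𝒜) W) ∪
        {c | ∃ k, gres (Twist.twist 𝒜 (n : ℤ)) (t k) W = c • gres (Twist.twist 𝒜 (n : ℤ)) (t j) W})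
      intro (c : Γ(Proj 𝒜, W)) _
      have hpow : ∀ l, (a j).1 ^ l ∈ 𝒜 (l * n) := fun l => by
        simpa [smul_eq_mul] using SetLike.pow_mem_graded l (a j).2
      have key : ∀ l, ∀ b ∈ (Submodule.span R (Set.range fun i => (a i).1)) ^ l, ∃ hb : b ∈ 𝒜 (l * n),
          regFrac W b ((a j).1 ^ l) hb (hpow l) (fun x => notMem_pow x.2 l) ∈ S := by
        intro l b hb
        induction hb using Submodule.pow_induction_on_left' with
        | algebraMap r =>
          refine ⟨by simpa using SetLike.algebraMap_mem_graded 𝒜 r, ?_⟩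
          refine (congrArg (· ∈ S) (reg_ext fun x hx => ?_)).mpr (Subring.subset_closure (Or.inl ⟨r, rfl⟩))
          rw [rval_regFrac, rval_sigma 𝒜 (a j).2 hn r x hx]
          congr 1
          exact Subtype.ext (pow_zero _)
        | add x y i _ _ hx hy =>
          obtain ⟨hx, hx'⟩ := hx
          obtain ⟨hy, hy'⟩ := hy
          refine ⟨add_mem hx hy, ?_⟩
          refine (congrArg (· ∈ S) (reg_ext fun z hz => ?_)).mpr (add_mem hx' hy')
          rw [rval_add, rval_regFrac, rval_regFrac, rval_regFrac, Localization.add_mk_self]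
        | mem_mul m hm i x _ hx =>
          obtain ⟨hx, hx'⟩ := hx
          have hm' : m ∈ 𝒜 n := Submodule.span_le.mpr (by rintro _ ⟨k, rfl⟩; exact (a k).2) hm
          have hmS : regFrac W m (a j).1 hm' (a j).2 (fun x => x.2) ∈ S := by
            clear hx hx'
            induction hm using Submodule.span_induction with
            | mem y hy =>
              obtain ⟨k, rfl⟩ := hy
              exact Subring.subset_closure (Or.inr ⟨k, ProjLinear.globalOf_eq_smul 𝒜 (a k) (a j) fun x => x.2⟩)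
            | zero =>
              refine (congrArg (· ∈ S) (reg_ext fun z hz => ?_)).mpr S.zero_mem
              rw [rval_regFrac, Localization.mk_zero]
              exact HomogeneousLocalization.val_zero.symm
            | add y z hy hz ihy ihz =>
              have hy' : y ∈ 𝒜 n := Submodule.span_le.mpr (by rintro _ ⟨k, rfl⟩; exact (a k).2) hy
              have hz' : z ∈ 𝒜 n := Submodule.span_le.mpr (by rintro _ ⟨k, rfl⟩; exact (a k).2) hz
              refine (congrArg (· ∈ S) (reg_ext fun w hw => ?_)).mpr (add_mem (ihy hy') (ihz hz'))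
              rw [rval_add, rval_regFrac, rval_regFrac, rval_regFrac, Localization.add_mk_self]
            | smul r y hy ihy =>
              have hy' : y ∈ 𝒜 n := Submodule.span_le.mpr (by rintro _ ⟨k, rfl⟩; exact (a k).2) hy
              refine (congrArg (· ∈ S) (reg_ext fun w hw => ?_)).mpr
                (mul_mem (Subring.subset_closure (Or.inl ⟨r, rfl⟩)) (ihy hy'))
              rw [rval_mul, rval_regFrac, rval_regFrac, rval_sigma 𝒜 (a j).2 hn r w hw, Localization.mk_mul]
              congr 1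
              · exact Algebra.smul_def r y
              · exact Subtype.ext (one_mul _).symm
          refine ⟨by rw [Nat.succ_mul, add_comm]; exact SetLike.mul_mem_graded hm' hx, ?_⟩
          refine (congrArg (· ∈ S) (reg_ext fun z hz => ?_)).mpr (mul_mem hmS hx')
          rw [rval_mul, rval_regFrac, rval_regFrac, rval_regFrac, Localization.mk_mul]
          congr 1
          exact Subtype.ext (pow_succ' _ _)
      obtain ⟨k, b, hb, -, hc⟩ := ProjTwist.exists_frac_regular 𝒜 hn (a j).2 c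
      obtain ⟨m, hm⟩ := hspan j hj k b hb
      obtain ⟨hmem, hS⟩ := key (k + m) _ hm
      refine (congrArg (· ∈ S) (reg_ext fun x hx => ?_)).mpr hS
      rw [rval_regFrac]
      refine Eq.trans (hc x hx : rval c x hx = _) ?_
      rw [Localization.mk_eq_mk_iff, Localization.r_iff_exists]
      exact ⟨1, by simp only [OneMemClass.coe_one]; ring⟩)
  refine ⟨N, i, hic ?_, hiq, hiso⟩
  have : IsScalarTower R (𝒜 0) A := ⟨fun r a b => (Algebra.smul_def _ _).trans ((smul_mul_assoc r (a : A) b).trans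
    (congrArg (r • ·) (Algebra.smul_def a b).symm))⟩
  have : Algebra.FiniteType (𝒜 0) A := Algebra.FiniteType.of_restrictScalars_finiteType R (𝒜 0) A
  have : IsClosedImmersion (Spec.map (CommRingCat.ofHom (algebraMap R (𝒜 0)))) :=
    IsClosedImmersion.spec_of_surjective _ h0
  infer_instance

end Groth.Agent.ProjSpaceBC
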